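import Cfsg.Agent.H141.Ux.Stmts
import Cfsg.Agent.H365.Zsig
import Cfsg.Agent.H183.UI.Prime

/-!
# S5716, task UI: the index sets (helper183)
-/

set_option autoImplicit false

namespace Cfsg.Agent.H183.UI

open Finset Cfsg.Agent.H141.Ux

/-! ### the numerical conditions -/

theorem four_pow {k : ℕ} (hk : 1 ≤ k) : k ^ 2 ≤ 4 ^ (k - 1) := by
  induction k, hk using Nat.le_induction with
  | base => norm_num
  | succ k hk ih =>
    have e1 : k + 1 - 1 = (k - 1) + 1 := by omega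
    rw [e1, pow_succ]
    have : (k + 1) ^ 2 ≤ k ^ 2 * 4 := by nlinarith
    exact this.trans (Nat.mul_le_mul_right _ ih)

theorem two_pow_quart {l : ℕ} (hl : 200 ≤ l) : l ^ 4 * 2 ^ 15 ≤ 2 ^ (l - 1) := by
  induction l, hl using Nat.le_induction with
  | base => norm_num
  | succ l hl ih =>
    have e1 : l + 1 - 1 = (l - 1) + 1 := by omega
    rw [e1, pow_succ]
    have h1 : (l + 1) ^ 4 ≤ l ^ 4 * 2 := by
      have h2 : (l + 1) ^ 2 ≤ l ^ 2 + 3 * l := by nlinarith
      calc (l + 1) ^ 4 = ((l + 1) ^ 2) ^ 2 := by ring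
        _ ≤ (l ^ 2 + 3 * l) ^ 2 := Nat.pow_le_pow_left h2 2
        _ = l ^ 2 * (l ^ 2 + 6 * l + 9) := by ring
        _ ≤ l ^ 2 * (l ^ 2 * 2) := by
          apply Nat.mul_le_mul_left
          nlinarith
        _ = l ^ 4 * 2 := by ring
    calc (l + 1) ^ 4 * 2 ^ 15 ≤ l ^ 4 * 2 * 2 ^ 15 := Nat.mul_le_mul_right _ h1
      _ = l ^ 4 * 2 ^ 15 * 2 := by ring
      _ ≤ _ := Nat.mul_le_mul_right _ ih

theorem num_aux {l : ℕ} (hl : 200 ≤ l) : 512 * l ^ 2 * (4 * l + 2) ^ 2 ≤ 2 ^ (l - 1) := by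
  have h1 : 4 * l + 2 ≤ 5 * l := by omega
  calc 512 * l ^ 2 * (4 * l + 2) ^ 2 ≤ 512 * l ^ 2 * (5 * l) ^ 2 :=
        Nat.mul_le_mul_left _ (Nat.pow_le_pow_left h1 2)
    _ = l ^ 4 * 12800 := by ring
    _ ≤ l ^ 4 * 2 ^ 15 := Nat.mul_le_mul_left _ (by norm_num)
    _ ≤ _ := two_pow_quart hl

theorem totient_mul_prime {l c : ℕ} (hl : l.Prime) (ho : Odd l) (hc : c = 1 ∨ c = 2) : (c * l).totient = l - 1 := by
  rcases hc with rfl | rfl
  · rw [one_mul, Nat.totient_prime hl]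
  · rw [Nat.totient_mul (Nat.coprime_two_left.2 ho), Nat.totient_two, one_mul, Nat.totient_prime hl]

theorem num_of {C η : ℝ} (hC : 200 ≤ C) (hη : 0 < η) (hCη : 1 / η ≤ C) {n p f l c : ℕ} (hp : p.Prime) (hf : 1 ≤ f)
    (h : Adm C n l) (hc : c = 1 ∨ c = 2) : Num η n p f (c * l) := by
  have hl1 := h.prime.two_le
  have hn1 : 1 ≤ n := by have := h.le; omega
  have hnR : (1 : ℝ) ≤ n := by exact_mod_cast hn1
  have hlog : 0 ≤ Real.log n := Real.log_nonneg hnR
  have h200 : 200 ≤ l := by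
    have h1 : (200 : ℝ) ≤ l := by
      have := h.ge
      nlinarith
    exact_mod_cast h1
  have hlel : l ≤ c * l := Nat.le_mul_of_pos_left _ (by omega)
  have hle2 : c * l ≤ 2 * l := Nat.mul_le_mul_right _ (by omega)
  have hη1 : (1 + Real.log n) ≤ η * (l : ℝ) := by
    have h1 : (1 / η) * (1 + Real.log n) ≤ l := by
      have : (1 / η) * (1 + Real.log n) ≤ C * (1 + Real.log n) := mul_le_mul_of_nonneg_right hCη (by linarith)
      exact this.trans h.ge
    have h2 := mul_le_mul_of_nonneg_left h1 hη.le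
    have h3 : η * ((1 / η) * (1 + Real.log n)) = 1 + Real.log n := by field_simp
    linarith
  have hclR : (l : ℝ) ≤ ((c * l : ℕ) : ℝ) := by exact_mod_cast hlel
  have hclR0 : (0 : ℝ) < ((c * l : ℕ) : ℝ) := by
    have : (200 : ℝ) ≤ l := by exact_mod_cast h200
    linarith
  have hη2 : (1 + Real.log n) ≤ η * ((c * l : ℕ) : ℝ) := hη1.trans (mul_le_mul_of_nonneg_left hclR hη.le)
  have htot := totient_mul_prime h.prime h.odd hc
  have hpf : 2 ≤ p ^ f := by
    calc 2 ≤ p := hp.two_le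
      _ = p ^ 1 := (pow_one p).symm
      _ ≤ p ^ f := Nat.pow_le_pow_right hp.pos hf
  refine ⟨by have := h.le; omega, by omega, ⟨fun hd => h.nd.1 ((Dvd.intro_left c rfl).trans hd),
    fun hd => h.nd.2.1 ((Dvd.intro_left c rfl).trans hd), fun hd => h.nd.2.2 ((Dvd.intro_left c rfl).trans hd)⟩, ?_, ?_, ?_, ?_⟩
  · have h1 : ∑ j ∈ Finset.range n, 1 / (((j + 1) * (c * l) : ℕ) : ℝ) = (harmonic n : ℝ) * (1 / ((c * l : ℕ) : ℝ)) := by
      rw [harmonic_real, Finset.sum_mul]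
      apply Finset.sum_congr rfl
      intro j _
      push_cast
      rw [one_div, one_div, mul_inv]
    rw [h1, mul_one_div, div_le_iff₀ hclR0]
    exact (harmonic_le_one_add_log n).trans hη2
  · rw [inv_le_comm₀ hclR0 hη]
    rw [inv_le_iff_one_le_mul₀' hη]
    linarith
  · rw [htot]
    calc 16 * (c * l) * (2 * (c * l) + 2) ^ 2 ≤ 16 * (2 * l) * (2 * (2 * l) + 2) ^ 2 := by
          apply Nat.mul_le_mul (Nat.mul_le_mul_left _ hle2)
          apply Nat.pow_le_pow_left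
          omega
      _ = 32 * l * (4 * l + 2) ^ 2 := by ring
      _ ≤ 512 * l ^ 2 * (4 * l + 2) ^ 2 := by
          apply Nat.mul_le_mul_right
          nlinarith
      _ ≤ 2 ^ (l - 1) := num_aux h200
      _ ≤ _ := Nat.pow_le_pow_left hpf _
  · have hk1 : 1 ≤ f.totient := Nat.totient_pos.2 hf
    have hfk : f ≤ 2 * f.totient ^ 2 := Cfsg.Agent.H365.Zsig.le_two_mul_totient_sq hf
    have hsm : (l - 1) * f.totient ≤ (c * l * f).totient := by
      have := Nat.totient_super_multiplicative (c * l) f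
      rwa [htot] at this
    set k := f.totient with hk
    have hA := num_aux h200
    have hA4 : 4 ≤ 2 ^ (l - 1) := by
      calc 4 = 2 ^ 2 := by norm_num
        _ ≤ 2 ^ (l - 1) := Nat.pow_le_pow_right (by norm_num) (by omega)
    calc 64 * (c * l * f) * (2 * (c * l) + 2) ^ 2 * (c * l)
        ≤ 64 * (2 * l * (2 * k ^ 2)) * (2 * (2 * l) + 2) ^ 2 * (2 * l) := by
          apply Nat.mul_le_mul _ hle2
          apply Nat.mul_le_mul
          · apply Nat.mul_le_mul_left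
            exact Nat.mul_le_mul hle2 hfk
          · apply Nat.pow_le_pow_left
            omega
      _ = (512 * l ^ 2 * (4 * l + 2) ^ 2) * k ^ 2 := by ring
      _ ≤ 2 ^ (l - 1) * (2 ^ (l - 1)) ^ (k - 1) := by
          apply Nat.mul_le_mul hA
          exact (four_pow hk1).trans (Nat.pow_le_pow_left hA4 _)
      _ = 2 ^ ((l - 1) * k) := by
          rw [← pow_succ', Nat.sub_add_cancel hk1, ← pow_mul]
      _ ≤ 2 ^ (c * l * f).totient := Nat.pow_le_pow_right (by norm_num) hsm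
      _ ≤ _ := Nat.pow_le_pow_left hp.two_le _

/-- **UI** -/
theorem ui : UI := by
  classical
  intro K η a b hη hK hab
  set C : ℝ := max 200 (1 / η) with hC
  have hC1 : 200 ≤ C := le_max_left _ _
  have hC2 : 1 / η ≤ C := le_max_right _ _
  have ha : a = 1 ∨ a = 2 := by omega
  have hb : b = 1 ∨ b = 2 := by omega
  obtain ⟨N₀, hN₀⟩ := exists_T C (a * (K + 1) + 16 + b * K) hC1
  refine ⟨N₀, fun n p f hn hp hf => ?_⟩
  obtain ⟨T, hT, hsum⟩ := hN₀ n hn
  obtain ⟨P, Q, hPT, hQT, hPQ, h1, h2, h3, h4⟩ := exists_sets T (fun l hl => (hT l hl).prime.one_lt.le) K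
    (by linarith) a b (by omega) (by omega) hsum
  have himg : ∀ (c : ℕ) (_ : 1 ≤ c) (A : Finset ℕ), ∑ e ∈ A.image (fun l => c * l), 1 / (e : ℝ) =
      ∑ l ∈ A, 1 / ((c * l : ℕ) : ℝ) := by
    intro c hc A
    rw [Finset.sum_image]
    intro x _ y _ hxy
    exact Nat.eq_of_mul_eq_mul_left hc hxy
  refine ⟨P.image (fun l => a * l), Q.image (fun l => b * l), ?_, ?_, ?_, ?_, ?_⟩
  · intro e he
    rw [Finset.mem_union, Finset.mem_image, Finset.mem_image] at he
    rcases he with ⟨l, hl, rfl⟩ | ⟨l, hl, rfl⟩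
    · exact num_of hC1 hη hC2 hp hf (hT l (hPT hl)) ha
    · exact num_of hC1 hη hC2 hp hf (hT l (hQT hl)) hb
  · intro e he
    obtain ⟨l, hl, rfl⟩ := Finset.mem_image.1 he
    exact ⟨l, (hT l (hPT hl)).prime, (hT l (hPT hl)).odd, rfl⟩
  · intro e he
    obtain ⟨l, hl, rfl⟩ := Finset.mem_image.1 he
    exact ⟨l, (hT l (hQT hl)).prime, (hT l (hQT hl)).odd, rfl⟩
  · intro e he d hd
    obtain ⟨l', hl', rfl⟩ := Finset.mem_image.1 he
    obtain ⟨l, hl, rfl⟩ := Finset.mem_image.1 hd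
    have hlt := hPQ l hl l' hl'
    have hpl := (hT l (hPT hl)).prime
    have hpl' := (hT l' (hQT hl')).prime
    have hol := (hT l (hPT hl)).odd
    have hol' := (hT l' (hQT hl')).odd
    have hcop : Nat.Coprime l' l := (Nat.coprime_primes hpl' hpl).2 (by omega)
    rcases hab with ⟨rfl, rfl⟩ | ⟨rfl, rfl⟩
    · refine ⟨by omega, ?_⟩
      rw [if_pos rfl, one_mul]
      exact Nat.Coprime.mul_left (Nat.coprime_two_left.2 hol) hcop
    · refine ⟨by omega, ?_⟩
      rw [if_neg (by norm_num), one_mul]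
      have h2' : Nat.Coprime l' 2 := Nat.coprime_two_right.2 hol'
      exact h2'.mul_right (h2'.mul_right hcop)
  · rw [himg a (by omega), himg b (by omega)]
    exact ⟨h1, h2, h3, h4⟩

end Cfsg.Agent.H183.UI
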